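import Cfsg.Agent.Classical10.U32Cert

set_option autoImplicit false

/-! Two matrices generating `SU₃(2)`: the certificate. -/

namespace Cfsg.Agent.KSG55.SUOdd

open Cfsg.Agent.U32

/-- A word in two elements. -/
def word {M : Type*} [Monoid M] (a b : M) (t : Fin 4 × Fin 2 × Fin 3 × Fin 3 × Fin 3) : M :=
  let x := a * a * (b * b)
  let c := a * a * a * (b * b) * (a * a * a)
  a ^ (t.1 : ℕ) * b ^ (t.2.1 : ℕ) * x ^ (t.2.2.1 : ℕ) * c ^ (t.2.2.2.1 : ℕ) *
    (c * c * (x * x) * c * x) ^ (t.2.2.2.2 : ℕ)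

/-- A code of a matrix. -/
def code (M : Matrix (Fin 3) (Fin 3) R) : ℕ :=
  (List.finRange 3).foldl (fun n i => (List.finRange 3).foldl
    (fun n j => n * 4 + ((M i j).re.val + 2 * (M i j).im.val)) n) 0

/-- All exponents. -/
def exps : List (Fin 4 × Fin 2 × Fin 3 × Fin 3 × Fin 3) :=
  (List.finRange 4).flatMap fun a => (List.finRange 2).flatMap fun b => (List.finRange 3).flatMap fun i =>
    (List.finRange 3).flatMap fun j => (List.finRange 3).map fun k => (a, b, i, j, k)

theorem exps_spec : exps.length = 216 ∧ exps.Nodup := by decide +kernel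

theorem words_nodup : (exps.map fun t => code (word A B t)).Nodup := by decide +kernel

end Cfsg.Agent.KSG55.SUOdd
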