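import Cfsg.Agent.KSG55.SUOdd.Cert
import Cfsg.Agent.Classical10.U32

set_option autoImplicit false

/-! `SU₃(2)` is generated by two of its elements. -/

namespace Cfsg.Agent.KSG55.SUOdd

open Matrix Cfsg.Agent.U32

theorem word_map {M N : Type*} [Monoid M] [Monoid N] (f : M →* N) (a b : M)
    (t : Fin 4 × Fin 2 × Fin 3 × Fin 3 × Fin 3) : f (word a b t) = word (f a) (f b) t := by
  simp only [word, map_mul, map_pow]

theorem word_mem {G : Type*} [Group G] (a b : G) (t : Fin 4 × Fin 2 × Fin 3 × Fin 3 × Fin 3) :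
    word a b t ∈ Subgroup.closure {a, b} := by
  set H := Subgroup.closure ({a, b} : Set G)
  have ha : a ∈ H := Subgroup.subset_closure (by simp)
  have hb : b ∈ H := Subgroup.subset_closure (by simp)
  have hx : a * a * (b * b) ∈ H := H.mul_mem (H.mul_mem ha ha) (H.mul_mem hb hb)
  have hc : a * a * a * (b * b) * (a * a * a) ∈ H :=
    H.mul_mem (H.mul_mem (H.mul_mem (H.mul_mem ha ha) ha) (H.mul_mem hb hb)) (H.mul_mem (H.mul_mem ha ha) ha)
  simp only [word]
  exact H.mul_mem (H.mul_mem (H.mul_mem (H.mul_mem (H.pow_mem ha _) (H.pow_mem hb _)) (H.pow_mem hx _))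
    (H.pow_mem hc _)) (H.pow_mem (H.mul_mem (H.mul_mem (H.mul_mem (H.mul_mem hc hc) (H.mul_mem hx hx)) hc) hx) _)

theorem two_gen {F : Type*} [Field F] [Fintype F] (hF : Fintype.card F = 4) :
    ∃ a b : Cfsg.SU 3 F 2, Subgroup.closure ({a, b} : Set (Cfsg.SU 3 F 2)) = ⊤ := by
  classical
  have hF' : Fintype.card F = 2 ^ 2 := hF
  obtain ⟨φ, hφ, hsq⟩ := U32.exists_ringHom hF
  set Φ : Matrix (Fin 3) (Fin 3) R →+* Matrix (Fin 3) (Fin 3) F := φ.mapMatrix with hΦdef
  have hΦ : Function.Injective Φ := fun x y h => by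
    ext i j
    all_goals first
      | exact congrArg QuadraticAlgebra.re (hφ (congrFun (congrFun h i) j))
      | exact congrArg QuadraticAlgebra.im (hφ (congrFun (congrFun h i) j))
  let mat : Cfsg.SU 3 F 2 →* Matrix (Fin 3) (Fin 3) F :=
    { toFun := fun g => ((g : Matrix.SpecialLinearGroup (Fin 3) F) : Matrix (Fin 3) (Fin 3) F)
      map_one' := rfl
      map_mul' := fun _ _ => rfl }
  have hmat : Function.Injective mat := fun g h e => Subtype.ext (Subtype.ext e)
  have hex : ∀ M ∈ A :: B :: L, ∃ g : Cfsg.SU 3 F 2, mat g = Φ M := by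
    intro M hM
    obtain ⟨hu, hd⟩ := good M hM
    have hu' : Mᵀ * M.map (fun x => x * x) = 1 := of_decide_eq_true hu
    have h1 : (Φ M)ᵀ * (Φ M).map (fun x => x ^ 2) = 1 := by
      have h2 : (Φ M).map (fun x => x ^ 2) = Φ (M.map fun x => x * x) := by
        ext i j; exact hsq _
      have h3 : (Φ M)ᵀ = Φ Mᵀ := rfl
      rw [h2, h3, ← map_mul, hu', map_one]
    have hd' : (Φ M).det = 1 := by
      rw [hΦdef, ← RingHom.map_det]
      have : M.det = 1 := by rw [Matrix.det_fin_three]; exact hd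
      rw [this, map_one]
    refine ⟨⟨⟨Φ M, hd'⟩, fun u v => ?_⟩, rfl⟩
    show Cfsg.hermForm 3 F 2 (Φ M *ᵥ u) (Φ M *ᵥ v) = Cfsg.hermForm 3 F 2 u v
    have hconj : (fun x => (Φ M *ᵥ v) x ^ 2) = (Φ M).map (fun x => x ^ 2) *ᵥ fun x => v x ^ 2 := by
      funext x
      simp only [Matrix.mulVec, dotProduct, Matrix.map_apply, Unitary.sum_pow_q hF', mul_pow]
    show (Φ M *ᵥ u) ⬝ᵥ (fun x => (Φ M *ᵥ v) x ^ 2) = u ⬝ᵥ fun x => v x ^ 2
    rw [hconj, Matrix.dotProduct_mulVec, Matrix.vecMul_mulVec, h1, Matrix.vecMul_one]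
  obtain ⟨gA, hA⟩ := hex A List.mem_cons_self
  obtain ⟨gB, hB⟩ := hex B (List.mem_cons_of_mem _ List.mem_cons_self)
  refine ⟨gA, gB, Subgroup.eq_top_of_le_card _ ?_⟩
  have hcard : Nat.card (Cfsg.SU 3 F 2) = 216 := by
    have h := Unitary.card_SU_mul hF' (n := 3) (by norm_num)
    rw [Unitary.card_GU hF'] at h
    simp [Finset.prod_range_succ, Nat.even_iff, -Nat.card_eq_fintype_card] at h
    omega
  have hw : ∀ t, mat (word gA gB t) = Φ (word A B t) := fun t => by
    rw [word_map mat, hA, hB, ← MonoidHom.coe_coe, word_map]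
  rw [hcard]
  let f : {t // t ∈ exps} → Subgroup.closure ({gA, gB} : Set (Cfsg.SU 3 F 2)) :=
    fun t => ⟨word gA gB t.1, word_mem _ _ _⟩
  have hf : Function.Injective f := fun s t e => by
    refine Subtype.ext (List.inj_on_of_nodup_map words_nodup s.2 t.2 (congrArg code (hΦ ?_)))
    rw [← hw, ← hw]
    exact congrArg (fun z : Subgroup.closure ({gA, gB} : Set (Cfsg.SU 3 F 2)) => mat z.1) e
  refine le_trans (le_of_eq ?_) (Nat.card_le_card_of_injective f hf)
  rw [Nat.card_eq_fintype_card, Fintype.card_of_subtype exps.toFinset (fun x => List.mem_toFinset),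
    List.toFinset_card_of_nodup exps_spec.2, exps_spec.1]

end Cfsg.Agent.KSG55.SUOdd
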