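import Cfsg.Agent.KSG55.Herm.Main
import Cfsg.Agent.KSG55.SUStep.Main
import Cfsg.Agent.KSG55.SU3.Main
import Cfsg.Agent.KSG55.SUOdd.SUThreeTwo
import Cfsg.Agent.Lib.ChevGen.SUTwo
import Cfsg.Agent.S0281

set_option autoImplicit false

/-! Presentations of all special unitary groups on few generators. -/

namespace Cfsg.Agent.KSG55.SUOdd

open Cfsg.Agent.KSG55.Pres Cfsg.Agent.ChevGen

variable {F : Type*} [Field F] [Fintype F] {q : ℕ} (hF : Fintype.card F = q ^ 2)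

include hF

theorem two_gen_large {n : ℕ} (hn : 3 ≤ n) (h32 : ¬ (n = 3 ∧ q = 2)) :
    ∃ a b : Cfsg.SU n F q, Subgroup.closure ({a, b} : Set (Cfsg.SU n F q)) = ⊤ := by
  obtain ⟨l, r, hr, hn'⟩ : ∃ l r, r ≤ 1 ∧ n = 2 * l + r := ⟨n / 2, n % 2, by omega, by omega⟩
  haveI : NeZero l := ⟨by omega⟩
  obtain ⟨B⟩ := SUGen.exists_frame hF hn' hr
  exact SUGen.exists_two hF B (by omega) hr hn' hn h32

theorem two_gen_three_up {n : ℕ} (hn : 3 ≤ n) :
    ∃ a b : Cfsg.SU n F q, Subgroup.closure ({a, b} : Set (Cfsg.SU n F q)) = ⊤ := by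
  by_cases h32 : n = 3 ∧ q = 2
  · obtain ⟨rfl, rfl⟩ := h32
    exact two_gen (by rw [hF]; norm_num)
  · exact two_gen_large hF hn h32

theorem two_gen_two : ∃ a b : Cfsg.SU 2 F q, Subgroup.closure ({a, b} : Set (Cfsg.SU 2 F q)) = ⊤ := by
  classical
  letI := Herm.starRingOf hF
  haveI : Fintype (Herm.Kf F) := Fintype.ofFinite _
  have hK : Fintype.card (Herm.Kf F) = q := by
    rw [← Nat.card_eq_fintype_card, ← Unitary.card_fixed hF]
    exact Nat.card_congr (Equiv.subtypeEquivRight fun x => Iff.rfl)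
  obtain ⟨e⟩ := Cfsg.Agent.S0281.equiv_SL hF hK
  obtain ⟨a, ha⟩ := IsCyclic.exists_generator (α := (Herm.Kf F)ˣ)
  obtain ⟨u, v, huv⟩ := Lin.exists_pair ha
  refine ⟨e.symm u, e.symm v, ?_⟩
  have := congrArg (Subgroup.map e.symm.toMonoidHom) huv
  rw [MonoidHom.map_closure, Subgroup.map_top_of_surjective _ e.symm.surjective, Set.image_pair] at this
  exact this

/-- All special unitary groups of dimension at least three, other than `SU₃(2)`. -/
theorem su_all {n : ℕ} (hn : 3 ≤ n) (h32 : ¬ (n = 3 ∧ q = 2)) :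
    ∃ (k : ℕ) (g : Fin k → Cfsg.SU n F q), PresOn g 71 := by
  by_cases h3 : n = 3
  · subst h3
    obtain ⟨g, hg⟩ := SU3.su_three F q hF fun h => h32 ⟨rfl, h⟩
    exact ⟨_, g, hg.mono (by norm_num)⟩
  obtain ⟨l, rfl | rfl⟩ : ∃ l, n = 2 * l ∨ n = 2 * l + 1 := ⟨n / 2, by omega⟩
  · obtain ⟨g, hg⟩ := Herm.su_even hF (l := l) rfl (by omega)
    exact ⟨_, g, hg.mono (by norm_num)⟩
  obtain ⟨j, rfl⟩ : ∃ j, l = j + 2 := ⟨l - 2, by omega⟩
  obtain ⟨g, hg⟩ := Herm.su_even hF (n := 2 * j + 4) (l := j + 2) (by omega) (by omega)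
  obtain ⟨a, b, hab⟩ := two_gen_large hF (n := 2 * j + 4) (by omega) (by omega)
  have h0 : ∃ a b : Cfsg.SU (2 * j + 2) F q, Subgroup.closure ({a, b} : Set _) = ⊤ := by
    rcases Nat.eq_zero_or_pos j with rfl | hj
    · exact two_gen_two hF
    · exact two_gen_three_up hF (by omega)
  obtain ⟨g', hg'⟩ := SUStep.presOn_succ (k := 2 * j) hF (hg.pair a b hab)
    (two_gen_three_up hF (by omega)) h0
  exact ⟨_, g', hg'.mono (by norm_num)⟩

end Cfsg.Agent.KSG55.SUOdd
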